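import Cfsg.Agent.CosetEnum.Fi23E7C.Data

set_option autoImplicit false
set_option maxRecDepth 100000
set_option Elab.async false

/-! Deductions for the coset table on 7 cosets (generated certificate). -/

namespace CfsgLib.CosetEnum.Fi23E7C

def B0 : ℕ := 0x10c6318c20

theorem tree0 : foldR (tree 6 tb id parN parX) 3 0 0 = B0 := by decide +kernel

theorem goodT0 : enum.Good B0 := enum.good_tree_block 3 0 _ _ enum.good_zero tree0

theorem good0 : enum.Good B0 := goodT0

def D1 : ℕ := 0xff00000000ff00000005050100000504010000050301000005020100000401030000040a0100000409010000040801000003070300000302020000030e010000030d010000020c0300000208020000020302000002110100000110030000010d0200000109020000010402000000130300000011020000000e020000000a02000000050200000019000000001800000000170000000016000000001500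

def B1 : ℕ := 0x3ffffffffff

theorem step1 : runDed 6 tb id wd 21 26 5 D1 B0 = B1 := by decide +kernel

theorem good1 : enum.Good B1 :=
  enum.good_ded 5 D1 21 26 _ _ rfl rfl good0 step1

end CfsgLib.CosetEnum.Fi23E7C
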